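import Mathlib.FieldTheory.RatFunc.AsPolynomial
import Mathlib.RingTheory.PowerSeries.Exp
import Mathlib.RingTheory.PowerSeries.Derivative
import Mathlib.RingTheory.PowerSeries.Substitution
import Mathlib.FieldTheory.IsAlgClosed.Basic
import Mathlib.Analysis.Complex.Polynomial.Basic

/-!
# Rationality of `exp (Σ F(q^v) t^v / v)`
-/

noncomputable section

open Polynomial Finset

namespace Groth.Agent.Lib.ExpRat99.Basic

/-- All nonzero roots lie on the unit circle. -/
def CircleRoots (D : ℚ[X]) : Prop := ∀ z : ℂ, aeval z D = 0 → z = 0 ∨ ‖z‖ = 1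

theorem denom_circle {F : RatFunc ℚ}
    (hF : F ∈ Subring.closure
      (({RatFunc.X, (RatFunc.X : RatFunc ℚ)⁻¹} : Set (RatFunc ℚ)) ∪
        Set.range fun n : ℕ => ((RatFunc.X : RatFunc ℚ) ^ (n + 1) - 1)⁻¹)) :
    CircleRoots F.denom := by
  suffices h : ∃ P D : ℚ[X], D ≠ 0 ∧ CircleRoots D ∧ F = algebraMap _ _ P / algebraMap _ _ D by
    obtain ⟨P, D, hD, hc, rfl⟩ := h
    obtain ⟨E, hE⟩ := (RatFunc.denom_dvd hD).2 ⟨P, rfl⟩
    exact fun z hz => hc z (by
      rw [hE, map_mul]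
      exact mul_eq_zero_of_left hz _)
  have h1 : CircleRoots 1 := fun z hz => by simp at hz
  have hmul : ∀ {D D' : ℚ[X]}, CircleRoots D → CircleRoots D' → CircleRoots (D * D') := fun h h' z hz => by
    rw [map_mul, mul_eq_zero] at hz
    exact hz.elim (h z) (h' z)
  induction hF using Subring.closure_induction with
  | zero => exact ⟨0, 1, one_ne_zero, h1, by simp⟩
  | one => exact ⟨1, 1, one_ne_zero, h1, by simp⟩
  | add x y _ _ hx hy =>
    obtain ⟨P, D, hD, hc, rfl⟩ := hx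
    obtain ⟨P', D', hD', hc', rfl⟩ := hy
    refine ⟨P * D' + D * P', D * D', mul_ne_zero hD hD', hmul hc hc', ?_⟩
    rw [div_add_div _ _ (RatFunc.algebraMap_ne_zero hD) (RatFunc.algebraMap_ne_zero hD')]
    simp only [map_add, map_mul]
  | neg x _ hx =>
    obtain ⟨P, D, hD, hc, rfl⟩ := hx
    exact ⟨-P, D, hD, hc, by rw [map_neg, neg_div]⟩
  | mul x y _ _ hx hy =>
    obtain ⟨P, D, hD, hc, rfl⟩ := hx
    obtain ⟨P', D', hD', hc', rfl⟩ := hy
    exact ⟨P * P', D * D', mul_ne_zero hD hD', hmul hc hc', by rw [div_mul_div_comm, map_mul, map_mul]⟩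
  | mem x hx =>
    rcases hx with (rfl | rfl) | ⟨n, rfl⟩
    · exact ⟨X, 1, one_ne_zero, h1, by simp [RatFunc.algebraMap_X]⟩
    · exact ⟨1, X, X_ne_zero, fun z hz => Or.inl (by simpa using hz), by simp [RatFunc.algebraMap_X]⟩
    · refine ⟨1, X ^ (n + 1) - C 1, X_pow_sub_C_ne_zero n.succ_pos 1, fun z hz => Or.inr ?_,
        by simp [RatFunc.algebraMap_X]⟩
      simp only [map_sub, map_pow, aeval_X, aeval_C, map_one, sub_eq_zero] at hz
      exact (pow_eq_one_iff_of_nonneg (norm_nonneg z) n.succ_ne_zero).1 (by rw [← norm_pow, hz, norm_one])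

theorem eval_ne_zero {D : ℚ[X]} (hD : CircleRoots D) {a : ℚ} (ha : 1 < |a|) : D.eval a ≠ 0 := fun h => by
  have h' : aeval (a : ℂ) D = 0 := by
    rw [show (a : ℂ) = algebraMap ℚ ℂ a from (eq_ratCast _ a).symm, aeval_algebraMap_apply, coe_aeval_eq_eval, h, map_zero]
  rcases hD _ h' with h0 | h1
  · rw [Rat.cast_eq_zero] at h0
    rw [h0, abs_zero] at ha
    exact absurd ha (by norm_num)
  · rw [Complex.norm_ratCast, ← Rat.cast_abs] at h1
    have : |a| = 1 := by exact_mod_cast h1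
    rw [this] at ha
    exact lt_irrefl _ ha

theorem one_lt_pow {q : ℤ} (hq : 1 < q) {v : ℕ} (hv : v ≠ 0) : 1 < |(q : ℚ) ^ v| := by
  have h : (1 : ℚ) < q := by exact_mod_cast hq
  rw [abs_of_pos (pow_pos (zero_lt_one.trans h) v)]
  exact one_lt_pow₀ h hv

/-- The derivative of the logarithm. -/
theorem deriv_log {a : ℕ → ℚ} {P Q : ℚ[X]}
    (h : (PowerSeries.exp ℚ).subst (PowerSeries.mk fun v : ℕ => if v = 0 then (0 : ℚ) else a v / (v : ℚ))
        * (Q : PowerSeries ℚ) = (P : PowerSeries ℚ)) (hQ : Q ≠ 0) :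
    P ≠ 0 ∧ ((P * Q : ℚ[X]) : PowerSeries ℚ) * PowerSeries.mk (fun v => a (v + 1)) =
      ((derivative P * Q - P * derivative Q : ℚ[X]) : PowerSeries ℚ) := by
  set S := PowerSeries.mk fun v : ℕ => if v = 0 then (0 : ℚ) else a v / (v : ℚ) with hS
  have hsub : PowerSeries.HasSubst S := PowerSeries.HasSubst.of_constantCoeff_zero' (by simp [hS])
  set E := (PowerSeries.exp ℚ).subst S
  have hE : PowerSeries.derivative ℚ E = E * PowerSeries.mk (fun v => a (v + 1)) := by
    rw [PowerSeries.derivative_subst hsub, PowerSeries.derivative_exp]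
    congr 1
    ext v
    rw [PowerSeries.coeff_derivative, hS, PowerSeries.coeff_mk, PowerSeries.coeff_mk, if_neg v.succ_ne_zero]
    push_cast
    field_simp
  have hE0 : E ≠ 0 := fun h0 => by
    have h1 : PowerSeries.constantCoeff (R := ℚ) E = 1 := by
      rw [← PowerSeries.coeff_zero_eq_constantCoeff_apply, PowerSeries.coeff_subst' hsub, finsum_eq_single _ 0]
      · simp
      · intro d hd
        rw [PowerSeries.coeff_zero_eq_constantCoeff_apply (S ^ d), map_pow]
        simp [hS, zero_pow hd]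
    rw [h0, map_zero] at h1
    exact zero_ne_one h1
  refine ⟨fun hP => ?_, ?_⟩
  · rw [hP, Polynomial.coe_zero, mul_eq_zero] at h
    exact h.elim hE0 fun h' => hQ (by exact_mod_cast h')
  · have h2 := congrArg (PowerSeries.derivative ℚ) h
    rw [Derivation.leibniz, smul_eq_mul, smul_eq_mul, hE, PowerSeries.derivative_coe, PowerSeries.derivative_coe] at h2
    simp only [Polynomial.coe_mul, Polynomial.coe_sub]
    rw [← h2, ← h]
    ring

theorem mult_deriv (z : ℂ) (P : ℂ[X]) (hP : P ≠ 0) : ∃ (r : ℕ) (P₁ : ℂ[X]), P = (X - C z) ^ r * P₁ ∧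
    P₁.eval z ≠ 0 ∧ (X - C z) * derivative P = (X - C z) ^ r * (C (r : ℂ) * P₁ + (X - C z) * derivative P₁) := by
  obtain ⟨P₁, hP₁, hnd⟩ := P.exists_eq_pow_rootMultiplicity_mul_and_not_dvd hP z
  refine ⟨_, P₁, hP₁, fun h => hnd (dvd_iff_isRoot.2 h), ?_⟩
  generalize P.rootMultiplicity z = r at hP₁
  rw [hP₁]
  rcases r with _ | r
  · simp
  · rw [derivative_mul, derivative_X_sub_C_pow, Nat.add_sub_cancel, Nat.cast_add_one, pow_succ]
    ring

/-- The geometric series. -/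
theorem geom (β : ℚ) : ((1 - C β * X : ℚ[X]) : PowerSeries ℚ) * PowerSeries.mk (fun v => β ^ (v + 1)) =
    PowerSeries.C β := by
  ext v
  simp only [Polynomial.coe_sub, Polynomial.coe_one, Polynomial.coe_mul, Polynomial.coe_C, Polynomial.coe_X,
    sub_mul, one_mul, map_sub, PowerSeries.coeff_C, mul_assoc, PowerSeries.coeff_C_mul, PowerSeries.coeff_mk]
  rcases v with _ | v
  · simp
  · simp [PowerSeries.coeff_succ_X_mul, pow_succ]
    ring

theorem laurent (q : ℤ) (hq : 1 < q) (F : RatFunc ℚ) (hc : CircleRoots F.denom) {T W : ℚ[X]} (hT : T ≠ 0)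
    (h : (T : PowerSeries ℚ) * PowerSeries.mk (fun v => F.eval (RingHom.id ℚ) ((q : ℚ) ^ (v + 1))) =
      (W : PowerSeries ℚ)) : ∃ a : ℕ, F.denom = X ^ a := by
  classical
  set P := F.num
  set D := F.denom
  set d := T.natDegree
  let Di : ℕ → ℚ[X] := fun i => D.comp (C ((q : ℚ) ^ (d - i)) * X)
  let Pi' : ℕ → ℚ[X] := fun i => P.comp (C ((q : ℚ) ^ (d - i)) * X)
  let Φ : ℚ[X] := ∑ i ∈ Finset.range (d + 1), C (T.coeff i) * Pi' i * ∏ l ∈ (Finset.range (d + 1)).erase i, Di l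
  have hev : ∀ v, W.natDegree < v → Φ.eval ((q : ℚ) ^ (v + 1)) = 0 := by
    intro v hv
    have hpow : ∀ i, (q : ℚ) ^ (d - i) * (q : ℚ) ^ (v + 1) = (q : ℚ) ^ (d - i + v + 1) := fun i => by
      rw [← pow_add, ← add_assoc]
    have hne : ∀ i, (Di i).eval ((q : ℚ) ^ (v + 1)) ≠ 0 := fun i => by
      simp only [Di, eval_comp, eval_mul, eval_C, eval_X, hpow]
      exact eval_ne_zero hc (one_lt_pow hq (Nat.succ_ne_zero _))
    have hzero : ∑ i ∈ Finset.range (d + 1), T.coeff i * ((Pi' i).eval ((q : ℚ) ^ (v + 1)) / (Di i).eval ((q : ℚ) ^ (v + 1))) = 0 := by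
      have h1 := congrArg (PowerSeries.coeff (R := ℚ) (v + d)) h
      rw [PowerSeries.coeff_mul, Finset.Nat.sum_antidiagonal_eq_sum_range_succ_mk, Polynomial.coeff_coe,
        coeff_eq_zero_of_natDegree_lt (p := W) (by omega)] at h1
      rw [← h1]
      refine (Finset.sum_subset (Finset.range_subset_range.2 (by omega)) fun i _ hi => ?_).trans
        (Finset.sum_congr rfl fun i hi => ?_)
      · rw [Finset.mem_range, not_lt] at hi
        rw [coeff_eq_zero_of_natDegree_lt (p := T) (by omega), zero_mul]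
      · rw [Polynomial.coeff_coe]
        rcases lt_or_ge d i with hid | hid
        · rw [coeff_eq_zero_of_natDegree_lt (p := T) hid, zero_mul, zero_mul]
        · rw [PowerSeries.coeff_mk]
          simp only [Pi', Di, eval_comp, eval_mul, eval_C, eval_X, hpow, RatFunc.eval, P, D]
          rw [show v + d - i + 1 = d - i + v + 1 by omega]
          rfl
    simp only [Φ, eval_finsetSum, eval_mul, eval_C, eval_prod]
    rw [← mul_zero (∏ l ∈ Finset.range (d + 1), (Di l).eval ((q : ℚ) ^ (v + 1))), ← hzero, Finset.mul_sum]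
    refine Finset.sum_congr rfl fun i hi => ?_
    rw [← Finset.mul_prod_erase _ _ hi]
    field_simp [hne i]
  have hΦ : Φ = 0 := by
    refine eq_zero_of_infinite_isRoot _ (Set.Infinite.mono ?_ (Set.infinite_range_of_injective
      (f := fun v : ℕ => (q : ℚ) ^ (v + W.natDegree + 1 + 1)) ?_))
    · rintro _ ⟨v, rfl⟩
      exact hev (v + W.natDegree + 1) (by omega)
    · intro v w hvw
      have h : (1 : ℚ) < q := by exact_mod_cast hq
      have := (pow_right_strictMono₀ h).injective hvw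
      omega
  have hz : ∀ z : ℂ, aeval z D = 0 → z = 0 := fun z hz => by
    by_contra hz0
    have hnorm := (hc z hz).resolve_left hz0
    have hP : aeval z P ≠ 0 := fun hP => by
      obtain ⟨u, w, huw⟩ := RatFunc.isCoprime_num_denom F
      have h1 := congrArg (aeval (R := ℚ) z) huw
      rw [map_add, map_mul, map_mul, map_one, hz, hP, mul_zero, mul_zero, add_zero] at h1
      exact zero_ne_one h1
    set i₀ := d
    have hT0 : T.coeff i₀ ≠ 0 := by rw [← leadingCoeff]; exact leadingCoeff_ne_zero.2 hT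
    have hval : ∀ i, aeval z (Di i) = aeval ((q : ℂ) ^ (d - i) * z) D := fun i => by
      simp [Di, aeval_comp]
    have h0 := congrArg (aeval (R := ℚ) z) hΦ
    simp only [Φ, map_sum, map_mul, map_prod, aeval_C, map_zero] at h0
    rw [Finset.sum_eq_single i₀ (fun i hi hne => ?_) (fun h => absurd (Finset.self_mem_range_succ d) h)] at h0
    · rcases mul_eq_zero.1 h0 with h1 | h1
      · rcases mul_eq_zero.1 h1 with h2 | h2
        · exact hT0 (by simpa using h2)
        · refine hP ?_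
          simpa [Pi', aeval_comp, i₀] using h2
      · obtain ⟨l, hl, hl0⟩ := Finset.prod_eq_zero_iff.1 h1
        rw [hval] at hl0
        obtain ⟨hne, hl'⟩ := Finset.mem_erase.1 hl
        rw [Finset.mem_range] at hl'
        rcases hc _ hl0 with h2 | h2
        · exact (mul_ne_zero (pow_ne_zero _ (Int.cast_ne_zero.2 (by omega))) hz0) h2
        · rw [norm_mul, norm_pow, hnorm, mul_one, Complex.norm_intCast] at h2
          have h3 : (1 : ℝ) < |(q : ℝ)| := lt_of_lt_of_le (by exact_mod_cast hq) (le_abs_self _)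
          exact (one_lt_pow₀ h3 (show d - l ≠ 0 by omega)).ne' h2
    · refine mul_eq_zero_of_right _ (Finset.prod_eq_zero (Finset.mem_erase.2 ⟨Ne.symm hne, Finset.self_mem_range_succ d⟩) ?_)
      rw [hval]
      simpa [i₀] using hz
  refine ⟨D.natDegree, ?_⟩
  refine Polynomial.map_injective (algebraMap ℚ ℂ) (algebraMap ℚ ℂ).injective ?_
  have hm : (D.map (algebraMap ℚ ℂ)).Monic := (RatFunc.monic_denom F).map _
  have hroots : (D.map (algebraMap ℚ ℂ)).roots = Multiset.replicate D.natDegree 0 := by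
    refine Multiset.eq_replicate.2 ⟨?_, fun z hz' => hz z ?_⟩
    · rw [IsAlgClosed.card_roots_eq_natDegree, natDegree_map]
    · rw [mem_roots hm.ne_zero, IsRoot, eval_map, ← aeval_def] at hz'
      exact hz'
  rw [Polynomial.Splits.eq_prod_roots_of_monic (IsAlgClosed.splits (D.map (algebraMap ℚ ℂ))) hm, hroots]
  simp

theorem integral (q : ℤ) (hq : 1 < q) (F : RatFunc ℚ) {P Q : ℚ[X]} (hP : P ≠ 0) (hQ : Q ≠ 0) {a : ℕ}
    (ha : F.denom = X ^ a)
    (h : ((P * Q : ℚ[X]) : PowerSeries ℚ) * PowerSeries.mk (fun v => F.eval (RingHom.id ℚ) ((q : ℚ) ^ (v + 1))) =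
      ((derivative P * Q - P * derivative Q : ℚ[X]) : PowerSeries ℚ)) :
    ∀ m, ∃ c : ℤ, F.num.coeff m = c := by
  classical
  set N := F.num
  let β : ℕ → ℚ := fun m => (q : ℚ) ^ m / (q : ℚ) ^ a
  have hq0 : (q : ℚ) ≠ 0 := by exact_mod_cast (show q ≠ 0 by omega)
  have hS : PowerSeries.mk (fun v => F.eval (RingHom.id ℚ) ((q : ℚ) ^ (v + 1))) =
      ∑ m ∈ N.support, PowerSeries.C (N.coeff m) * PowerSeries.mk (fun v => β m ^ (v + 1)) := by
    ext v
    simp only [map_sum, PowerSeries.coeff_C_mul, PowerSeries.coeff_mk, RatFunc.eval, ha]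
    rw [eval₂_eq_sum, Polynomial.sum_def, eval₂_X_pow, Finset.sum_div]
    refine Finset.sum_congr rfl fun m _ => ?_
    simp only [RingHom.id_apply, β, div_pow, ← pow_mul]
    rw [mul_comm (v + 1) m, mul_comm (v + 1) a, mul_div_assoc]
  let G : ℕ → ℚ[X] := fun m => ∏ l ∈ N.support.erase m, (1 - C (β l) * X)
  let G₀ : ℚ[X] := ∏ l ∈ N.support, (1 - C (β l) * X)
  have hkey : P * Q * ∑ m ∈ N.support, C (N.coeff m * β m) * G m = (derivative P * Q - P * derivative Q) * G₀ := by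
    apply Polynomial.coe_injective ℚ
    rw [Polynomial.coe_mul, Polynomial.coe_mul (derivative P * Q - P * derivative Q), ← h, mul_assoc]
    congr 1
    rw [hS, Finset.sum_mul, ← Polynomial.coeToPowerSeries.ringHom_apply, map_sum]
    refine Finset.sum_congr rfl fun m hm => ?_
    rw [Polynomial.coeToPowerSeries.ringHom_apply,
      show G₀ = (1 - C (β m) * X) * G m from (Finset.mul_prod_erase _ _ hm).symm, Polynomial.coe_mul,
      Polynomial.coe_mul, Polynomial.coe_C, map_mul]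
    linear_combination -(PowerSeries.C (N.coeff m) * (G m : PowerSeries ℚ)) * geom (β m)
  intro m
  by_cases hm : m ∈ N.support
  swap
  · exact ⟨0, by rw [notMem_support_iff.1 hm, Int.cast_zero]⟩
  let φ := Polynomial.mapRingHom (algebraMap ℚ ℂ)
  have hk := congrArg φ hkey
  simp only [map_mul, map_sub, map_sum, φ, coe_mapRingHom, Polynomial.map_C, ← derivative_map] at hk
  set z : ℂ := ((β m : ℚ) : ℂ)⁻¹
  have hβ : ∀ l, (β l : ℂ) ≠ 0 := fun l => by
    rw [Ne, Rat.cast_eq_zero]; exact div_ne_zero (pow_ne_zero _ hq0) (pow_ne_zero _ hq0)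
  have hG : ∀ l ∈ N.support, (G l).map (algebraMap ℚ ℂ) = ∏ i ∈ N.support.erase l, (1 - C (β i : ℂ) * X) := fun l _ => by
    simp [G, Polynomial.map_prod]
  have hGm : ((G m).map (algebraMap ℚ ℂ)).eval z ≠ 0 := by
    rw [hG m hm, eval_prod, Finset.prod_ne_zero_iff]
    intro i hi h0
    simp only [eval_sub, eval_one, eval_mul, eval_C, eval_X, sub_eq_zero, z] at h0
    rw [← div_eq_mul_inv, eq_comm, div_eq_one_iff_eq (hβ m), Rat.cast_inj, div_left_inj' (pow_ne_zero _ hq0)] at h0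
    exact (Finset.mem_erase.1 hi).1 ((pow_right_strictMono₀ (show (1 : ℚ) < q by exact_mod_cast hq)).injective h0)
  obtain ⟨r, P₁, hP₁, hP₁0, hP'⟩ := mult_deriv z (P.map (algebraMap ℚ ℂ)) (Polynomial.map_ne_zero hP)
  obtain ⟨s, Q₁, hQ₁, hQ₁0, hQ'⟩ := mult_deriv z (Q.map (algebraMap ℚ ℂ)) (Polynomial.map_ne_zero hQ)
  set Sg := ∑ x ∈ N.support, C (algebraMap ℚ ℂ (N.coeff x)) * C (algebraMap ℚ ℂ (β x)) * (G x).map (algebraMap ℚ ℂ)
  have hG0 : G₀.map (algebraMap ℚ ℂ) = -C (β m : ℂ) * (X - C z) * (G m).map (algebraMap ℚ ℂ) := by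
    rw [show G₀ = (1 - C (β m) * X) * G m from (Finset.mul_prod_erase _ _ hm).symm, Polynomial.map_mul]
    congr 1
    rw [neg_mul, mul_sub, ← map_mul, mul_inv_cancel₀ (hβ m)]
    simp
  have heq : (X - C z) ^ (r + s) * (P₁ * Q₁ * Sg) = (X - C z) ^ (r + s) * (-C (β m : ℂ) * (G m).map (algebraMap ℚ ℂ) *
      ((C (r : ℂ) - C (s : ℂ)) * (P₁ * Q₁) + (X - C z) * (derivative P₁ * Q₁ - P₁ * derivative Q₁))) := by
    rw [pow_add]
    rw [hG0] at hk
    linear_combination hk + (-C (β m : ℂ) * (G m).map (algebraMap ℚ ℂ)) * (Q.map (algebraMap ℚ ℂ) * hP' - P.map (algebraMap ℚ ℂ) * hQ') -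
      (Sg * Q.map (algebraMap ℚ ℂ)) * hP₁ - (Sg * (X - C z) ^ r * P₁) * hQ₁ +
      (-C (β m : ℂ) * (G m).map (algebraMap ℚ ℂ)) * ((X - C z) ^ r * (C (r : ℂ) * P₁ + (X - C z) * derivative P₁)) * hQ₁ -
      (-C (β m : ℂ) * (G m).map (algebraMap ℚ ℂ)) * ((X - C z) ^ s * (C (s : ℂ) * Q₁ + (X - C z) * derivative Q₁)) * hP₁
  have h2 := congrArg (Polynomial.eval z) (mul_left_cancel₀ (pow_ne_zero _ (X_sub_C_ne_zero z)) heq)
  have hSg : Sg.eval z = ((N.coeff m : ℂ) * (β m : ℂ)) * ((G m).map (algebraMap ℚ ℂ)).eval z := by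
    rw [eval_finsetSum, Finset.sum_eq_single m (fun l hl hlm => ?_) (fun h => absurd hm h)]
    · simp
    · rw [eval_mul]
      refine mul_eq_zero_of_right _ ?_
      rw [hG l hl, eval_prod]
      exact Finset.prod_eq_zero (Finset.mem_erase.2 ⟨Ne.symm hlm, hm⟩) (by simp [z, mul_inv_cancel₀ (hβ m)])
  simp only [eval_mul, eval_add, eval_sub, eval_neg, eval_C, eval_X, sub_self, zero_mul, add_zero, hSg] at h2
  refine ⟨(s : ℤ) - r, ?_⟩
  apply (algebraMap ℚ ℂ).injective
  simp only [eq_ratCast]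
  push_cast
  refine mul_right_cancel₀ (mul_ne_zero (mul_ne_zero (mul_ne_zero hP₁0 hQ₁0) (hβ m)) hGm) ?_
  linear_combination h2

theorem main (q : ℤ) (hq : 1 < q) (F : RatFunc ℚ)
    (hF : F ∈ Subring.closure
      (({RatFunc.X, (RatFunc.X : RatFunc ℚ)⁻¹} : Set (RatFunc ℚ)) ∪
        Set.range fun n : ℕ => ((RatFunc.X : RatFunc ℚ) ^ (n + 1) - 1)⁻¹))
    (hrat : ∃ P Q : Polynomial ℚ, Q ≠ 0 ∧
      (PowerSeries.exp ℚ).subst
          (PowerSeries.mk fun v : ℕ => if v = 0 then (0 : ℚ)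
            else F.eval (RingHom.id ℚ) ((q : ℚ) ^ v) / (v : ℚ))
        * (Q : PowerSeries ℚ) = (P : PowerSeries ℚ)) :
    ∃ (P : Polynomial ℤ) (a : ℕ),
      F * RatFunc.X ^ a = algebraMap (Polynomial ℚ) (RatFunc ℚ) (P.map (Int.castRingHom ℚ)) := by
  obtain ⟨P, Q, hQ, h⟩ := hrat
  obtain ⟨hP, hd⟩ := deriv_log (a := fun v => F.eval (RingHom.id ℚ) ((q : ℚ) ^ v)) h hQ
  obtain ⟨a, ha⟩ := laurent q hq F (denom_circle hF) (mul_ne_zero hP hQ) hd
  have hc := integral q hq F hP hQ ha hd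
  obtain ⟨Pz, hPz⟩ : F.num ∈ Polynomial.lifts (Int.castRingHom ℚ) :=
    (Polynomial.lifts_iff_coeff_lifts _).2 fun m => ⟨(hc m).choose, ((hc m).choose_spec).symm⟩
  refine ⟨Pz, a, ?_⟩
  rw [show Pz.map (Int.castRingHom ℚ) = F.num from hPz]
  conv_lhs => rw [← RatFunc.num_div_denom F, ha, map_pow, RatFunc.algebraMap_X]
  rw [div_mul_cancel₀ _ (pow_ne_zero _ RatFunc.X_ne_zero)]

end Groth.Agent.Lib.ExpRat99.Basic
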